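import Groth.Agent.CurveRR.Series
import Groth.Agent.CurveRR.Point
import Groth.Agent.CurveRR.Curve
import Groth.Agent.DualGeneric.SubL
import Groth.Agent.Intersect.PushDeg
import Groth.Agent.SerrePn.Hypersurface
import Groth.Agent.S7618
import Groth.Agent.GRingCpl.ConnFibre
import Groth.Agent.NegTwist.Connected

/-!
Connectedness of closed subschemes and vanishing of `H^1` of their ideal sheaves.
-/

set_option autoImplicit false
set_option backward.isDefEq.respectTransparency false

universe u

open CategoryTheory CategoryTheory.Limits AlgebraicGeometry TopologicalSpace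
open Groth.Agent.CohFinite Groth.Agent.SerrePn

namespace Groth.Agent.ConnDiv

variable {k : Type u} [Field k] [IsAlgClosed k] {X : Scheme.{u}} [X.Over (Spec (CommRingCat.of k))]
  [IsProper (X ↘ Spec (CommRingCat.of k))]

omit [IsAlgClosed k] in
/-- Cohomology of the structure sheaf of a closed subscheme. -/
theorem h0_quot (I : X.IdealSheafData) :
    letI : I.subscheme.Over (Spec (CommRingCat.of k)) := ⟨I.subschemeι ≫ (X ↘ Spec (CommRingCat.of k))⟩
    CurveRR.h k (ClSub.quotMod I) 0 = CurveRR.h k (Coh.structureModule I.subscheme) 0 := by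
  letI : I.subscheme.Over (Spec (CommRingCat.of k)) := ⟨I.subschemeι ≫ (X ↘ Spec (CommRingCat.of k))⟩
  haveI : IsProper (I.subscheme ↘ Spec (CommRingCat.of k)) :=
    inferInstanceAs (IsProper (I.subschemeι ≫ (X ↘ Spec (CommRingCat.of k))))
  exact Intersect.finrank_sec_push (k := k) I.subschemeι rfl _

theorem h0_structure [IsIntegral X] : CurveRR.h k (Coh.structureModule X) 0 = 1 := by
  letI := CurveRR.secMod k (Coh.structureModule X) ⊤
  rw [← CurveRR.finrank_sec]
  let e : k →ₗ[k] Γ(Coh.structureModule X, ⊤) :=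
    { toFun := fun a => CurveRR.cst k X ⊤ a
      map_add' := map_add _
      map_smul' := fun a b => map_mul (CurveRR.cst k X ⊤) a b }
  have hb : Function.Bijective e := by
    show Function.Bijective (CurveRR.cst k X ⊤ : k → Γ(X, ⊤))
    rw [show (CurveRR.cst k X ⊤ : k → Γ(X, ⊤)) = Coh.toGlobal (X ↘ Spec (CommRingCat.of k)) from
      funext fun a => Groth.Agent.QC.resO_self _ _]
    exact CurveRR.bijective_toGlobal _
  rw [← (LinearEquiv.ofBijective e hb).finrank_eq, Module.finrank_self]

/-- A connected reduced proper scheme over an algebraically closed field has only constants. -/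
theorem h0_of_connected [ConnectedSpace X] [IsReduced X] : CurveRR.h k (Coh.structureModule X) 0 = 1 := by
  haveI := CurveRR.isNoetherian_of_proper k X
  haveI hf : Module.Finite k (Coh.HH X (Coh.structureModule X) 0) :=
    finite_proper k X _ (NegTwist.isCoh_structureModule (X := X)) 0
  letI := CurveRR.secMod k (Coh.structureModule X) ⊤
  haveI : Module.Finite k Γ(Coh.structureModule X, ⊤) :=
    Module.Finite.equiv (CurveRR.secH0 (k := k) (Coh.structureModule X)).symm
  letI := (CurveRR.cst k X ⊤).toAlgebra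
  haveI : Module.Finite k Γ(X, ⊤) := ‹Module.Finite k Γ(Coh.structureModule X, ⊤)›
  haveI : IsArtinianRing Γ(X, ⊤) := IsArtinianRing.of_finite k _
  haveI : Nonempty (⊤ : X.Opens) := ⟨⟨(ConnectedSpace.toNonempty (α := X)).some, trivial⟩⟩
  haveI : Nontrivial Γ(X, ⊤) := inferInstance
  haveI : ConnectedSpace (PrimeSpectrum Γ(X, ⊤)) :=
    Groth.Agent.GRingCpl.connectedSpace_of_idem fun e he => Groth.Agent.S7618.idem_trivial e he
  haveI : Subsingleton (PrimeSpectrum Γ(X, ⊤)) := PreconnectedSpace.trivial_of_discrete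
  haveI : IsLocalRing Γ(X, ⊤) := IsLocalRing.of_unique_max_ideal <| by
    obtain ⟨m, hm⟩ := Ideal.exists_maximal Γ(X, ⊤)
    exact ⟨m, hm, fun m' hm' =>
      congrArg PrimeSpectrum.asIdeal (Subsingleton.elim (⟨m', hm'.isPrime⟩ : PrimeSpectrum _) ⟨m, hm.isPrime⟩)⟩
  have hfld : IsField Γ(X, ⊤) := IsArtinianRing.isField_of_isReduced_of_isLocalRing _
  letI := hfld.toField
  have hb : Function.Bijective (algebraMap k Γ(X, ⊤)) :=
    IsAlgClosed.algebraMap_bijective_of_isIntegral
  rw [← CurveRR.finrank_sec]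
  exact Module.finrank_of_bijective_algebraMap hb

/-- No constants in the ideal of a nonempty closed subscheme. -/
theorem injective_hhMap_quot [IsIntegral X] (I : X.IdealSheafData) (hne : Nonempty I.subscheme) :
    Function.Injective (hhMap k (idealSeq I).g 0) := by
  rw [injective_iff_map_eq_zero]
  intro x hx
  letI := CurveRR.secMod k (Coh.structureModule X) ⊤
  letI := CurveRR.secMod k (ClSub.quotMod I) ⊤
  obtain ⟨s, rfl⟩ := (CurveRR.secH0 (k := k) (Coh.structureModule X)).surjective x
  have h1 : (idealSeq I).g.app ⊤ s = 0 := by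
    have h := CurveRR.hhMap_secH0 (k := k) (idealSeq I).g s
    exact (CurveRR.secH0 (k := k) (ClSub.quotMod I)).injective ((h.symm.trans hx).trans (map_zero _).symm)
  obtain ⟨c, hc⟩ := (CurveRR.bijective_toGlobal (X ↘ Spec (CommRingCat.of k))).2 (show Γ(X, ⊤) from s)
  by_contra hs
  have hc0 : c ≠ 0 := fun h => hs (by
    have : (show Γ(X, ⊤) from s) = 0 := by rw [← hc, h, map_zero]
    rw [show s = 0 from this, map_zero])
  have hu : IsUnit ((I.subschemeι.app ⊤).hom (show Γ(X, ⊤) from s)) := by
    rw [← hc]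
    exact ((isUnit_iff_ne_zero.mpr hc0).map (Coh.toGlobal (X ↘ Spec (CommRingCat.of k)))).map _
  have h2 : (I.subschemeι.app ⊤).hom (show Γ(X, ⊤) from s) = 0 := h1
  rw [h2, isUnit_zero_iff] at hu
  obtain ⟨z⟩ := hne
  haveI : Nonempty (I.subschemeι ⁻¹ᵁ ⊤ : I.subscheme.Opens) := ⟨⟨z, trivial⟩⟩
  exact zero_ne_one hu

include k in
/-- Vanishing of `H^1` of the ideal of a connected reduced closed subscheme. -/
theorem subsingleton_h1_ideal [IsIntegral X] (hH1 : Subsingleton (Coh.HH X (Coh.structureModule X) 1))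
    (I : X.IdealSheafData) [ConnectedSpace I.subscheme] [IsReduced I.subscheme] :
    Subsingleton (Coh.HH X (ClSub.idealMod I) 1) := by
  letI : I.subscheme.Over (Spec (CommRingCat.of k)) := ⟨I.subschemeι ≫ (X ↘ Spec (CommRingCat.of k))⟩
  haveI : IsProper (I.subscheme ↘ Spec (CommRingCat.of k)) :=
    inferInstanceAs (IsProper (I.subschemeι ≫ (X ↘ Spec (CommRingCat.of k))))
  have hS := idealSeq_shortExact I
  have h3 : Module.finrank k (Coh.HH X (idealSeq I).X₃ 0) = 1 := (h0_quot I).trans h0_of_connected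
  have h2 : Module.finrank k (Coh.HH X (idealSeq I).X₂ 0) = 1 := h0_structure
  haveI : Module.Finite k (Coh.HH X (idealSeq I).X₂ 0) := Module.finite_of_finrank_eq_succ h2
  haveI : Module.Finite k (Coh.HH X (idealSeq I).X₃ 0) := Module.finite_of_finrank_eq_succ h3
  have hsurj : Function.Surjective (hhMap k (idealSeq I).g 0) :=
    (LinearMap.injective_iff_surjective_of_finrank_eq_finrank (h2.trans h3.symm)).mp
      (injective_hhMap_quot I inferInstance)
  refine subsingleton_of_forall_eq 0 fun y => ?_
  obtain ⟨z, hz⟩ : y ∈ LinearMap.range (hhδ k hS 0) := by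
    rw [CurveRR.range_δ_eq_ker_f hS 0]
    exact @Subsingleton.elim _ hH1 _ _
  obtain ⟨w, rfl⟩ := hsurj z
  rw [← hz]
  have : hhMap k (idealSeq I).g 0 w ∈ LinearMap.ker (hhδ k hS 0) := by
    rw [← CurveRR.range_g_eq_ker_δ hS 0]
    exact ⟨w, rfl⟩
  exact this

include k in
/-- Connectedness from vanishing of `H^1` of the ideal. -/
theorem connectedSpace_of_h1 [IsIntegral X] (I : X.IdealSheafData) (hne : Nonempty I.subscheme)
    (hvan : Subsingleton (Coh.HH X (ClSub.idealMod I) 1)) : ConnectedSpace I.subscheme := by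
  haveI := CurveRR.isNoetherian_of_proper k X
  letI : I.subscheme.Over (Spec (CommRingCat.of k)) := ⟨I.subschemeι ≫ (X ↘ Spec (CommRingCat.of k))⟩
  haveI : IsProper (I.subscheme ↘ Spec (CommRingCat.of k)) :=
    inferInstanceAs (IsProper (I.subschemeι ≫ (X ↘ Spec (CommRingCat.of k))))
  have hS := idealSeq_shortExact I
  have h2 : Module.finrank k (Coh.HH X (idealSeq I).X₂ 0) = 1 := h0_structure
  haveI : Module.Finite k (Coh.HH X (idealSeq I).X₂ 0) := Module.finite_of_finrank_eq_succ h2
  have hsurj : Function.Surjective (hhMap k (idealSeq I).g 0) := fun y => by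
    have : y ∈ LinearMap.range (hhMap k (idealSeq I).g 0) := by
      rw [CurveRR.range_g_eq_ker_δ hS 0]
      exact @Subsingleton.elim _ hvan _ _
    exact this
  have hinj := injective_hhMap_quot (k := k) I hne
  have h3 := (LinearEquiv.ofBijective _ ⟨hinj, hsurj⟩).finrank_eq.symm.trans h2
  exact Groth.Agent.DualGeneric.Sub.connectedSpace_of_h0 k ((h0_quot (k := k) I).symm.trans h3)

end Groth.Agent.ConnDiv
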